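import Groth.Agent.H4LC.Depth
import Groth.Agent.H4Depth.IdealDepth
import Groth.Agent.H3CAlg.NoEmbedded
import Groth.Agent.H8Props.FieldDimHeight
import Groth.Agent.H8Props.FieldDimRing
import Groth.Agent.H4LC.LC
import Groth.Agent.H4LC.Torsion

/-! Local cohomology and the normalisation of a finitely generated domain at a maximal ideal. -/

set_option autoImplicit false
set_option linter.style.haveILetI false
universe u

namespace Groth.Agent.H8Props.LocCohNormal

variable {G B : Type u} [CommRing G] [IsNoetherianRing G] [CommRing B] [IsDomain B] [IsNoetherianRing B]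
  [IsIntegrallyClosed B] [Algebra G B] [Module.Finite G B]

/-- A normal finite extension domain has depth two at an ideal whose primes above all have height
at least two. -/
theorem two_le_idealDepth (m : Ideal G) (hG : Function.Injective (algebraMap G B)) (hm0 : m ≠ ⊥)
    (hQ : ∀ Q : Ideal B, Q.IsPrime → m ≤ Q.comap (algebraMap G B) → ¬ Q.height ≤ 1) :
    (2 : ℕ∞) ≤ LocCoh.idealDepth m B := by
  by_cases htop : m • (⊤ : Submodule G B) = ⊤
  · rw [H4Depth.idealDepth_eq_top htop]; exact le_top
  obtain ⟨a, ha, ha0⟩ := Submodule.exists_mem_ne_zero_of_ne_bot hm0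
  let N := B ⧸ Ideal.span {algebraMap G B a}
  have hass : ∀ q ∈ associatedPrimes B N, ¬ m ≤ q.comap (algebraMap G B) := fun q hq h =>
    hQ q hq.isPrime h (H3CAlg.NoEmbedded.height_le_one_of_mem_associatedPrimes ((map_ne_zero_iff _ hG).2 ha0) hq)
  have hex : ∃ b ∈ m, ∀ q ∈ associatedPrimes B N, algebraMap G B b ∉ q := by
    by_contra hne
    push_neg at hne
    haveI := (associatedPrimes.finite B N).fintype
    have hsub : (m : Set G) ⊆ ⋃ q ∈ (associatedPrimes B N).toFinset,
        ((q.comap (algebraMap G B) : Ideal G) : Set G) := by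
      intro b hb
      obtain ⟨q, hq, hbq⟩ := hne b hb
      exact Set.mem_biUnion (Set.mem_toFinset.2 hq) hbq
    obtain ⟨q, hq, hle⟩ := (Ideal.subset_union_prime ⊤ ⊤ (fun i hi _ _ => by
      haveI := (Set.mem_toFinset.1 hi).isPrime
      exact Ideal.IsPrime.comap (algebraMap G B))).1 hsub
    exact hass q (Set.mem_toFinset.1 hq) hle
  obtain ⟨b, hb, hbq⟩ := hex
  have hreg : RingTheory.Sequence.IsWeaklyRegular B [a, b] := by
    rw [RingTheory.Sequence.isWeaklyRegular_cons_iff, RingTheory.Sequence.isWeaklyRegular_singleton_iff]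
    refine ⟨fun x y h => ?_, fun x y hxy => ?_⟩
    · simpa [Algebra.smul_def, hG, ha0, (map_ne_zero_iff _ hG).2 ha0] using h
    · obtain ⟨x, rfl⟩ := Submodule.Quotient.mk_surjective _ x
      obtain ⟨y, rfl⟩ := Submodule.Quotient.mk_surjective _ y
      rw [Submodule.Quotient.eq, Submodule.mem_smul_pointwise_iff_exists]
      change (Submodule.Quotient.mk (b • x) : QuotSMulTop a B) = Submodule.Quotient.mk (b • y) at hxy
      rw [Submodule.Quotient.eq, Submodule.mem_smul_pointwise_iff_exists] at hxy
      obtain ⟨z, -, hz⟩ := hxy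
      have hz' : algebraMap G B b * (x - y) = algebraMap G B a * z := by
        rw [mul_sub, ← Algebra.smul_def, ← Algebra.smul_def, ← Algebra.smul_def, hz]
      have hmem : Ideal.Quotient.mk (Ideal.span {algebraMap G B a}) (x - y) = 0 := by
        by_contra hne
        have : algebraMap G B b ∈ ⋃ p ∈ associatedPrimes B N, (p : Set B) := by
          rw [biUnion_associatedPrimes_eq_zero_divisors]
          refine ⟨_, hne, ?_⟩
          show Ideal.Quotient.mk _ (algebraMap G B b * (x - y)) = 0
          rw [Ideal.Quotient.eq_zero_iff_mem, hz', Ideal.mem_span_singleton]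
          exact dvd_mul_right _ _
        obtain ⟨q, hq, hbq'⟩ := Set.mem_iUnion₂.1 this
        exact hbq q hq hbq'
      obtain ⟨w, hw⟩ := Ideal.mem_span_singleton.1 (Ideal.Quotient.eq_zero_iff_mem.1 hmem)
      exact ⟨w, trivial, by rw [Algebra.smul_def, hw]⟩
  exact H4Depth.length_le_idealDepth hreg (by simp [ha, hb])

end Groth.Agent.H8Props.LocCohNormal
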